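import Cfsg.Agent.Lib.H17.Fi23Glue
import Cfsg.Agent.Lib.H17.SubChain

set_option autoImplicit false
set_option maxRecDepth 100000

/-! # The order chain for Fi23: the reordered generators (generated) -/

namespace Cfsg.Agent.Lib.H17.Fi23Ord

open Cfsg.Spor Cfsg.Agent.Lib.H17.CosetCert Cfsg.Agent.Lib.H17.CoxGlue Cfsg.Agent.Lib.H17.Fi23Glue Cfsg.Agent.Lib.H17.SubChain

/-- the presented group -/
abbrev G : Type := PresentedGroup rels

/-- the order of the letters along the chain: bcdefghiaj -/
def ι (x : ℕ) : ℕ := [1, 2, 3, 4, 5, 6, 8, 9, 0, 7].getD x 0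

/-- the generator images, in the order of the chain -/
noncomputable def γo (x : ℕ) : G := PresentedGroup.of (gen (ι x))

theorem γo_mul_self (x : ℕ) : γo x * γo x = 1 := of_mul_self _

theorem rel_trivial (w : List ℕ) (h : w.map ι ∈ relW) : (w.map γo).prod = 1 := by
  have := relW_trivial _ h
  rw [List.map_map, List.map_map] at this
  exact this

theorem ι_surj : ∀ y < 10, ∃ x < 10, ι x = y := by
  decide

theorem ι_lt : ∀ x < 10, ι x < 10 := by
  decide

/-- all the letters generate the group -/
theorem K_top : K γo 10 = ⊤ := by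
  rw [eq_top_iff, ← closure_gens]
  apply Subgroup.closure_mono
  rintro _ ⟨y, hy, rfl⟩
  obtain ⟨x, hx, rfl⟩ := ι_surj y hy
  exact ⟨x, hx, rfl⟩

end Cfsg.Agent.Lib.H17.Fi23Ord
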