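import Cfsg.Agent.Lib.H17.Fi23Ord.Simple
import Cfsg.Agent.Lib.H17.Fi22Ord.Simple
import Cfsg.Prelude.Def_SporadicB

set_option autoImplicit false
set_option maxRecDepth 100000

/-! # The subgroup `⟨a, …, i⟩` of the presented `Fi23` is a non-split double cover of the
presented `Fi22` -/

namespace Cfsg.Agent.Lib.H17.Fi23Cover

open Cfsg.Spor Cfsg.Agent.Lib.H17.CosetCert Cfsg.Agent.Lib.H17.CoxGlue
  Cfsg.Agent.Lib.H17.Fi23Glue Cfsg.Agent.Lib.H17.Iwa
  Cfsg.Agent.Lib.H17.Fi23Fi22

/-- the presented group `Fi22` -/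
abbrev G22 : Type := PresentedGroup Cfsg.Agent.Lib.H17.Fi22Glue.rels

/-- the letters of `Fi22` as letters of `Fi23` -/
def m : ℕ → ℕ
  | 7 => 8
  | 8 => 9
  | x => x

/-! ## The order of the subgroup -/

theorem card_H : Nat.card H = 129123503308800 := by
  have h := Subgroup.card_mul_index H
  rw [index_eq, Cfsg.Agent.Lib.H17.Fi23Ord.card_eq] at h
  omega

instance finite_H : Finite H := by
  have := Cfsg.Agent.Lib.H17.Fi23Ord.finite_G
  infer_instance

/-! ## The generators inside the subgroup -/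

theorem of_mem_H (x : ℕ) (hx : x ≠ 7) : (PresentedGroup.of (gen x) : G) ∈ H := by
  have h : ∀ s ∈ S, PresentedGroup.mk rels s ∈ H := fun s hs =>
    Subgroup.mem_map_of_mem _ (Subgroup.subset_closure hs)
  match x, hx with
  | 0, _ => exact h _ sg0_mem
  | 1, _ => exact h _ sg1_mem
  | 2, _ => exact h _ sg2_mem
  | 3, _ => exact h _ sg3_mem
  | 4, _ => exact h _ sg4_mem
  | 5, _ => exact h _ sg5_mem
  | 6, _ => exact h _ sg6_mem
  | 7, h7 => exact absurd rfl h7
  | 8, _ => exact h _ sg7_mem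
  | 9, _ => exact h _ sg8_mem
  | (n + 10), _ => exact h _ sg8_mem

theorem e_mem_H (L : List ℕ) (hL : ∀ x ∈ L, x ≠ 7) : Cfsg.Agent.Lib.H17.Fi23Ord.e L ∈ H := by
  induction L with
  | nil => exact one_mem H
  | cons x L ih =>
    rw [Cfsg.Agent.Lib.H17.Fi23Ord.e_cons]
    exact mul_mem (of_mem_H x (hL x List.mem_cons_self))
      (ih fun y hy => hL y (List.mem_cons_of_mem _ hy))

/-- a letter of `Fi22` inside the subgroup -/
noncomputable def embN (x : ℕ) : H :=
  if h : m x ≠ 7 then ⟨PresentedGroup.of (gen (m x)), of_mem_H (m x) h⟩ else 1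

theorem m_ne (x : ℕ) : m x ≠ 7 := by
  unfold m
  split <;> omega

theorem embN_val (x : ℕ) : ((embN x : H) : G) = PresentedGroup.of (gen (m x)) := by
  unfold embN
  rw [dif_pos (m_ne x)]

theorem embN_mul_self (x : ℕ) : embN x * embN x = 1 := by
  apply Subtype.ext
  rw [Subgroup.coe_mul, embN_val]
  exact of_mul_self _

theorem prod_embN_val (L : List ℕ) :
    (((L.map embN).prod : H) : G) = Cfsg.Agent.Lib.H17.Fi23Ord.e (L.map m) := by
  induction L with
  | nil => rfl
  | cons x L ih =>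
    rw [List.map_cons, List.prod_cons, Subgroup.coe_mul, ih, embN_val, List.map_cons,
      Cfsg.Agent.Lib.H17.Fi23Ord.e_cons]

/-! ## The central involution -/

open Cfsg.Agent.Lib.H17.Fi23Simple in
/-- the central involution as an element of the subgroup -/
noncomputable def zH : H := ⟨zel, e_mem_H zW (by decide)⟩

open Cfsg.Agent.Lib.H17.Fi23Simple in
theorem zH_val : ((zH : H) : G) = zel := rfl

open Cfsg.Agent.Lib.H17.Fi23Simple in
theorem zH_mul_self : zH * zH = 1 := by
  apply Subtype.ext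
  rw [Subgroup.coe_mul, zH_val]
  exact zel_sq

open Cfsg.Agent.Lib.H17.Fi23Simple in
theorem zel_ne_one : zel ≠ 1 := by
  intro h
  have h1 : φ zel ⟨1, by decide⟩ = ⟨1, by decide⟩ := by rw [h, map_one]; rfl
  rw [Cfsg.Agent.Lib.H17.Fi23Ord.φ_e] at h1
  have h2 := congrArg Fin.val h1
  rw [prod_apply 15 32768 31671 _
    (fun t ht => good_tabs t (Cfsg.Agent.Lib.H17.Fi23Ord.tw_mem _ t ht))] at h2
  revert h2
  decide +kernel

theorem zH_ne_one : zH ≠ 1 := by
  intro h
  exact zel_ne_one (congrArg Subtype.val h)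

open Cfsg.Agent.Lib.H17.Fi23Simple in
theorem zH_central (h : H) : zH * h = h * zH := by
  apply Subtype.ext
  rw [Subgroup.coe_mul, Subgroup.coe_mul, zH_val]
  exact zel_mem_T.2 h.1 (φ_H h.1 h.2)

/-- the subgroup generated by the central involution -/
noncomputable def Z : Subgroup H := Subgroup.zpowers zH

theorem Z_le_center : Z ≤ Subgroup.center H := by
  unfold Z
  rw [Subgroup.zpowers_le, Subgroup.mem_center_iff]
  intro h
  exact (zH_central h).symm

instance Z_normal : Z.Normal := by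
  constructor
  intro n hn g
  have hc := Subgroup.mem_center_iff.mp (Z_le_center hn) g
  rw [hc, mul_inv_cancel_right]
  exact hn

theorem card_Z : Nat.card Z = 2 := by
  unfold Z
  rw [Nat.card_zpowers]
  exact orderOf_eq_prime (by rw [pow_two]; exact zH_mul_self) zH_ne_one

/-! ## The homomorphism from `Fi22` -/

/-- the images of the generators of `Fi22` in the quotient -/
noncomputable def f22 (u : Cfsg.Agent.Lib.H17.Fi22Glue.Gen) : H ⧸ Z :=
  QuotientGroup.mk (embN (Cfsg.Agent.Lib.H17.Fi22Glue.idx u))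

theorem f22_mul_self (u : Cfsg.Agent.Lib.H17.Fi22Glue.Gen) : f22 u * f22 u = 1 := by
  unfold f22
  rw [← QuotientGroup.mk_mul, embN_mul_self]
  rfl

open Cfsg.Agent.Lib.H17.Fi23Simple in
theorem rel_cases : ∀ w ∈ Cfsg.Agent.Lib.H17.Fi22Glue.relW,
    (∀ c ∈ sbase, applyT 15 32768 (Cfsg.Agent.Lib.H17.Fi23Ord.tw (w.map m ++ ([] : List ℕ).reverse)) c = c) ∨
    (∀ c ∈ sbase, applyT 15 32768 (Cfsg.Agent.Lib.H17.Fi23Ord.tw (w.map m ++ zW.reverse)) c = c) := by
  decide +kernel

open Cfsg.Agent.Lib.H17.Fi23Simple in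
theorem rel_e : ∀ w ∈ Cfsg.Agent.Lib.H17.Fi22Glue.relW,
    Cfsg.Agent.Lib.H17.Fi23Ord.e (w.map m) = 1 ∨ Cfsg.Agent.Lib.H17.Fi23Ord.e (w.map m) = zel := by
  intro w hw
  rcases rel_cases w hw with h | h
  · left
    rw [← Cfsg.Agent.Lib.H17.Fi23Ord.e_nil]
    exact Cfsg.Agent.Lib.H17.Fi23Ord.e_eq_e _ _ h
  · right
    exact Cfsg.Agent.Lib.H17.Fi23Ord.e_eq_e _ _ h

theorem idx_gen22 : ∀ x < 9, Cfsg.Agent.Lib.H17.Fi22Glue.idx (Cfsg.Agent.Lib.H17.Fi22Glue.gen x) = x := by
  decide

theorem relW22_lt : ∀ w ∈ Cfsg.Agent.Lib.H17.Fi22Glue.relW, ∀ x ∈ w, x < 9 := by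
  decide

theorem hW22 : ∀ w ∈ Cfsg.Agent.Lib.H17.Fi22Glue.relW,
    ((w.map Cfsg.Agent.Lib.H17.Fi22Glue.gen).map f22).prod = 1 := by
  intro w hw
  have h1 : (w.map Cfsg.Agent.Lib.H17.Fi22Glue.gen).map f22 =
      (w.map embN).map (QuotientGroup.mk' Z) := by
    rw [List.map_map, List.map_map]
    apply List.map_congr_left
    intro x hx
    simp only [Function.comp, f22, idx_gen22 x (relW22_lt w hw x hx)]
    rfl
  rw [h1, ← map_list_prod, QuotientGroup.mk'_apply, QuotientGroup.eq_one_iff]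
  rcases rel_e w hw with h | h
  · have : (w.map embN).prod = 1 := Subtype.ext (by rw [prod_embN_val, h]; rfl)
    rw [this]
    exact one_mem Z
  · have : (w.map embN).prod = zH := Subtype.ext (by rw [prod_embN_val, h]; rfl)
    rw [this]
    exact Subgroup.mem_zpowers zH

/-- the homomorphism from the presented `Fi22` onto the quotient -/
noncomputable def ψ : G22 →* H ⧸ Z :=
  PresentedGroup.toGroup (f := f22) (Cfsg.Agent.Lib.H17.Fi22Glue.lift_rels f22 f22_mul_self hW22)

theorem ψ_of (u : Cfsg.Agent.Lib.H17.Fi22Glue.Gen) : ψ (PresentedGroup.of u) = f22 u :=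
  PresentedGroup.toGroup.of _

/-! ## The subgroup is generated by the letters -/

theorem closure_emb : Subgroup.closure {h : H | ∃ x < 9, h = embN x} = ⊤ := by
  rw [eq_top_iff]
  rintro ⟨g, hg⟩ -
  have key : ∀ g : G, g ∈ Subgroup.closure S' → ∀ hg : g ∈ H,
      (⟨g, hg⟩ : H) ∈ Subgroup.closure {h : H | ∃ x < 9, h = embN x} := by
    intro g hg'
    induction hg' using Subgroup.closure_induction with
    | mem y hy =>
      intro hg
      obtain ⟨s, hs, rfl⟩ := hy
      simp only [S, Set.mem_insert_iff, Set.mem_singleton_iff] at hs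
      apply Subgroup.subset_closure
      rcases hs with rfl | rfl | rfl | rfl | rfl | rfl | rfl | rfl | rfl
      · exact ⟨0, by norm_num, Subtype.ext (embN_val 0).symm⟩
      · exact ⟨1, by norm_num, Subtype.ext (embN_val 1).symm⟩
      · exact ⟨2, by norm_num, Subtype.ext (embN_val 2).symm⟩
      · exact ⟨3, by norm_num, Subtype.ext (embN_val 3).symm⟩
      · exact ⟨4, by norm_num, Subtype.ext (embN_val 4).symm⟩
      · exact ⟨5, by norm_num, Subtype.ext (embN_val 5).symm⟩
      · exact ⟨6, by norm_num, Subtype.ext (embN_val 6).symm⟩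
      · exact ⟨7, by norm_num, Subtype.ext (embN_val 7).symm⟩
      · exact ⟨8, by norm_num, Subtype.ext (embN_val 8).symm⟩
    | one =>
      intro hg
      exact one_mem _
    | mul a b ha hb iha ihb =>
      intro hg
      have ha' : a ∈ H := by rw [H_eq]; exact ha
      have hb' : b ∈ H := by rw [H_eq]; exact hb
      have : (⟨a * b, hg⟩ : H) = ⟨a, ha'⟩ * ⟨b, hb'⟩ := rfl
      rw [this]
      exact mul_mem (iha ha') (ihb hb')
    | inv a ha iha =>
      intro hg
      have ha' : a ∈ H := by rw [H_eq]; exact ha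
      have : (⟨a⁻¹, hg⟩ : H) = (⟨a, ha'⟩ : H)⁻¹ := rfl
      rw [this]
      exact inv_mem (iha ha')
  exact key g (by rw [← H_eq]; exact hg) hg

/-! ## The quotient is `Fi22` -/

theorem ψ_surj : Function.Surjective ψ := by
  rw [← MonoidHom.range_eq_top]
  have h1 : (Subgroup.closure {h : H | ∃ x < 9, h = embN x}).map (QuotientGroup.mk' Z) ≤ ψ.range := by
    rw [MonoidHom.map_closure, Subgroup.closure_le]
    rintro _ ⟨_, ⟨x, hx, rfl⟩, rfl⟩
    refine ⟨PresentedGroup.of (Cfsg.Agent.Lib.H17.Fi22Glue.gen x), ?_⟩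
    rw [ψ_of]
    unfold f22
    rw [idx_gen22 x hx]
    rfl
  rw [closure_emb, ← MonoidHom.range_eq_map, QuotientGroup.range_mk'] at h1
  exact top_le_iff.mp h1

theorem card_quot : Nat.card (H ⧸ Z) = 64561751654400 := by
  have h := Subgroup.card_eq_card_quotient_mul_card_subgroup Z
  rw [card_H, card_Z] at h
  omega

theorem ψ_bij : Function.Bijective ψ := by
  have : Finite G22 := Cfsg.Agent.Lib.H17.Fi22Ord.finite_G
  apply ψ_surj.bijective_of_nat_card_le
  rw [card_quot, Cfsg.Agent.Lib.H17.Fi22Ord.card_eq]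

theorem center22 : Subgroup.center G22 = ⊥ := by
  have hs : IsSimpleGroup G22 := Cfsg.Agent.Lib.H17.Fi22Simple.simple
  rcases hs.eq_bot_or_eq_top_of_normal (Subgroup.center G22) inferInstance with h | h
  · exact h
  · exfalso
    have h1 := (commutator_eq_bot_iff_center_eq_top G22).mpr h
    rw [Cfsg.Agent.Lib.H17.Fi22Simple.perfect] at h1
    have : Nontrivial (Subgroup G22) := inferInstance
    exact top_ne_bot h1

theorem center_eq : Subgroup.center H = Z := by
  apply le_antisymm _ Z_le_center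
  intro c hc
  rw [← QuotientGroup.eq_one_iff (N := Z)]
  obtain ⟨y, hy⟩ := ψ_surj (QuotientGroup.mk c)
  have hyc : y ∈ Subgroup.center G22 := by
    rw [Subgroup.mem_center_iff]
    intro g
    apply ψ_bij.1
    rw [map_mul, map_mul, hy]
    obtain ⟨h, hh⟩ := QuotientGroup.mk_surjective (ψ g)
    rw [← hh, ← QuotientGroup.mk_mul, ← QuotientGroup.mk_mul, Subgroup.mem_center_iff.mp hc h]
  rw [center22, Subgroup.mem_bot] at hyc
  rw [← hy, hyc, map_one]

theorem card_center : Nat.card (Subgroup.center H) = 2 := by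
  rw [center_eq]
  exact card_Z

theorem quot_iso : Nonempty (H ⧸ Subgroup.center H ≃* G22) :=
  ⟨(QuotientGroup.quotientMulEquivOfEq center_eq).trans (MulEquiv.ofBijective ψ ψ_bij).symm⟩

/-! ## The subgroup is perfect, so the extension does not split -/

theorem braidH (x y : ℕ) (hw : [m x, m y, m x, m y, m x, m y] ∈ relW) :
    ∃ g : H, g * embN x * g⁻¹ = embN y := by
  apply isConj_of_braid (embN_mul_self x) (embN_mul_self y)
  apply Subtype.ext
  rw [SubgroupClass.coe_pow, Subgroup.coe_mul, embN_val, embN_val]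
  exact Cfsg.Agent.Lib.H17.Fi23Simple.pow3_of_word (relW_trivial _ hw)

theorem conj_transH {a b c : H} (h1 : ∃ g : H, g * a * g⁻¹ = b) (h2 : ∃ g : H, g * b * g⁻¹ = c) :
    ∃ g : H, g * a * g⁻¹ = c := by
  obtain ⟨g, rfl⟩ := h1
  obtain ⟨h, rfl⟩ := h2
  exact ⟨h * g, by group⟩

theorem ch0 : ∃ g : H, g * embN 0 * g⁻¹ = embN 0 := ⟨1, by group⟩
theorem ch1 : ∃ g : H, g * embN 0 * g⁻¹ = embN 1 := braidH 0 1 (by decide)
theorem ch2 : ∃ g : H, g * embN 0 * g⁻¹ = embN 2 := conj_transH ch1 (braidH 1 2 (by decide))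
theorem ch3 : ∃ g : H, g * embN 0 * g⁻¹ = embN 3 := conj_transH ch2 (braidH 2 3 (by decide))
theorem ch4 : ∃ g : H, g * embN 0 * g⁻¹ = embN 4 := conj_transH ch3 (braidH 3 4 (by decide))
theorem ch5 : ∃ g : H, g * embN 0 * g⁻¹ = embN 5 := conj_transH ch4 (braidH 4 5 (by decide))
theorem ch6 : ∃ g : H, g * embN 0 * g⁻¹ = embN 6 := conj_transH ch5 (braidH 5 6 (by decide))
theorem ch7 : ∃ g : H, g * embN 0 * g⁻¹ = embN 7 := conj_transH ch3 (braidH 3 7 (by decide))
theorem ch8 : ∃ g : H, g * embN 0 * g⁻¹ = embN 8 := conj_transH ch7 (braidH 7 8 (by decide))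

theorem conj_allH : ∀ s ∈ {h : H | ∃ x < 9, h = embN x}, ∃ g : H, g * embN 0 * g⁻¹ = s := by
  rintro _ ⟨x, hx, rfl⟩
  interval_cases x
  · exact ch0
  · exact ch1
  · exact ch2
  · exact ch3
  · exact ch4
  · exact ch5
  · exact ch6
  · exact ch7
  · exact ch8

/-- a relator of odd length, in the letters of `Fi22` -/
def oddW22 : List ℕ := [0, 1, 2, 3, 4, 5, 7, 0, 1, 2, 3, 4, 5, 7, 0, 1, 2, 3, 4, 5, 7, 0, 1, 2, 3, 4, 5, 7, 0, 1, 2, 3, 4, 5, 7, 0, 1, 2, 3, 4, 5, 7, 0, 1, 2, 3, 4, 5, 7, 0, 1, 2, 3, 4, 5, 7, 0, 1, 2, 3, 4, 5, 7]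

theorem oddW22_trivial : Cfsg.Agent.Lib.H17.Fi23Ord.e (oddW22.map m) = 1 := by
  rw [← Cfsg.Agent.Lib.H17.Fi23Ord.e_nil]
  apply Cfsg.Agent.Lib.H17.Fi23Ord.e_eq_e
  decide +kernel

theorem perfect_H : commutator H = ⊤ := by
  apply commutator_eq_top_of_odd_relation _ closure_emb (embN 0) conj_allH (embN_mul_self 0)
    (oddW22.map embN)
  · intro s hs
    obtain ⟨x, hx, rfl⟩ := List.mem_map.mp hs
    have hall : ∀ x ∈ oddW22, x < 9 := by decide
    exact ⟨x, hall x hx, rfl⟩
  · rw [List.length_map]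
    decide
  · apply Subtype.ext
    rw [prod_embN_val, oddW22_trivial]
    rfl

theorem nonsplit : ∀ L : Subgroup H, ¬ (Subgroup.center H).IsComplement' L := by
  intro L hL
  have hcard := hL.card_mul
  rw [card_center, card_H] at hcard
  have hL' : Nat.card L = 64561751654400 := by omega
  have hidx : L.index = 2 := by
    have := Subgroup.card_mul_index L
    rw [card_H, hL'] at this
    omega
  have hn : L.Normal := Subgroup.normal_of_index_eq_two hidx
  have hq : Nat.card (H ⧸ L) = 2 := hidx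
  have : Fact (Nat.Prime 2) := ⟨Nat.prime_two⟩
  have hcyc : IsCyclic (H ⧸ L) := isCyclic_of_prime_card hq
  let _ : CommGroup (H ⧸ L) := IsCyclic.commGroup
  have hle : commutator H ≤ L := by
    have := Abelianization.commutator_subset_ker (QuotientGroup.mk' L)
    rwa [QuotientGroup.ker_mk'] at this
  rw [perfect_H, top_le_iff] at hle
  rw [hle, Subgroup.index_top] at hidx
  omega

/-- **The subgroup is a non-split double cover of the presented `Fi22`.** -/
theorem cover : Cfsg.IsNonsplitDoubleCover H G22 := ⟨card_center, quot_iso, nonsplit⟩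

end Cfsg.Agent.Lib.H17.Fi23Cover
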