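import Cfsg.Agent.Lib.H17.Fi23Ord.Lv1Facts

set_option autoImplicit false
set_option maxRecDepth 100000

/-! # Steps of the coset enumeration Fi23Ord Lv1, part 0 (generated) -/

namespace Cfsg.Agent.Lib.H17.Fi23Ord.Lv1

open Cfsg.Spor Cfsg.Agent.Lib.H17.CosetCert Cfsg.Agent.Lib.H17.CoxGlue Cfsg.Agent.Lib.H17.Fi23Glue Cfsg.Agent.Lib.H17.SubChain Cfsg.Agent.Lib.H17.Fi23Ord

/-- steps 0 … -/
def steps0 : List ℕ := [0x0]

theorem chk0 : checkSteps F 1 16777216 words steps0 0 1 = some 2 := by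
  decide +kernel

theorem len0 : steps0.length = 1 := by
  decide +kernel

end Cfsg.Agent.Lib.H17.Fi23Ord.Lv1
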