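import Cfsg.Agent.Lib.H17.Fi23Ord.Lv4Facts

set_option autoImplicit false
set_option maxRecDepth 100000

/-! # Final table of the coset enumeration Fi23Ord Lv4 (generated) -/

namespace Cfsg.Agent.Lib.H17.Fi23Ord.Lv4

open Cfsg.Spor Cfsg.Agent.Lib.H17.CosetCert Cfsg.Agent.Lib.H17.CoxGlue Cfsg.Agent.Lib.H17.Fi23Glue Cfsg.Agent.Lib.H17.SubChain Cfsg.Agent.Lib.H17.Fi23Ord

/-- rows 0 … -/
def rows0 : List ℕ := [0x3000002000001000000000000, 0x3000006000005000004000001, 0x8000006000009000007000002, 0xb00000a00000900000c000003, 0xf00000e00000d00000c000004]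

/-- the mask of the final nodes -/
def mask : ℕ := 0x1f

/-- all rows -/
def rows : List ℕ := rows0

theorem rows0_ok : checkRows F 4 16777216 16 mask rows0 = true := by
  decide +kernel

theorem rows_ok : checkRows F 4 16777216 16 mask rows = true := rows0_ok

theorem mask_ok : maskOf 16777216 rows 0 = mask := by
  decide +kernel

theorem mask_zero : tb mask 0 = true := by
  decide +kernel

theorem rows_length : rows.length = 5 := by
  decide +kernel

end Cfsg.Agent.Lib.H17.Fi23Ord.Lv4
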