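import Cfsg.Agent.Lib.H17.Fi23Ord.Lv5Facts

set_option autoImplicit false
set_option maxRecDepth 100000

/-! # Steps of the coset enumeration Fi23Ord Lv5, part 0 (generated) -/

namespace Cfsg.Agent.Lib.H17.Fi23Ord.Lv5

open Cfsg.Spor Cfsg.Agent.Lib.H17.CosetCert Cfsg.Agent.Lib.H17.CoxGlue Cfsg.Agent.Lib.H17.Fi23Glue Cfsg.Agent.Lib.H17.SubChain Cfsg.Agent.Lib.H17.Fi23Ord

/-- steps 0 … -/
def steps0 : List ℕ := [0xb, 0xc, 0xd, 0xe, 0x0, 0x4000004000000000001000002000000000004, 0x4000004000001000001000002000000000007, 0x4000004000002000001000002000000000009, 0x0, 0x8000008000005000001000002000001000003, 0x8000008000006000001000002000001000006, 0x400000300000400000800000800000400000100000100000a, 0x0, 0xc00000c000009000001000002000002000002, 0x800000700000800000c00000c000004000001000002000008, 0xb00000c00000c000002000001000002000009, 0x0, 0xc00000a00000c000010000010000004000001000003000005, 0xe000010000010000002000001000003000006, 0xf000010000010000002000001000003000007, 0x0, 0x1000000d000010000014000014000004000001000004000001, 0x11000014000014000002000001000004000002, 0x12000014000014000002000001000004000003,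 0x13000014000014000002000001000004000004]

theorem chk0 : checkSteps F 5 16777216 words steps0 0 1 = some 6 := by
  decide +kernel

theorem len0 : steps0.length = 25 := by
  decide +kernel

end Cfsg.Agent.Lib.H17.Fi23Ord.Lv5
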