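import Cfsg.Agent.Lib.H17.Fi23Ord.Lv8StepsA
import Cfsg.Agent.Lib.H17.Fi23Ord.Lv8StepsB
import Cfsg.Agent.Lib.H17.Fi23Ord.Lv8Rows

set_option autoImplicit false
set_option maxRecDepth 100000

/-! # Bound for the relative index, Fi23Ord Lv8 (generated) -/

namespace Cfsg.Agent.Lib.H17.Fi23Ord.Lv8

open Cfsg.Spor Cfsg.Agent.Lib.H17.CosetCert Cfsg.Agent.Lib.H17.CoxGlue Cfsg.Agent.Lib.H17.Fi23Glue Cfsg.Agent.Lib.H17.SubChain Cfsg.Agent.Lib.H17.Fi23Ord

theorem bound : Bound words 8 3159 := by
  intro G' _ Q' _ _ γ' hinv q0 hOK hgen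
  have h0 := inv_zero F 8 γ' q0
  have h1 := checkSteps_sound F 8 16777216 γ' hinv q0 words hOK steps0 0 1 422 h0 chk0
  rw [len0] at h1
  have h2 := checkSteps_sound F 8 16777216 γ' hinv q0 words hOK steps1 2000 422 931 h1 chk1
  rw [len1] at h2
  have h3 := checkSteps_sound F 8 16777216 γ' hinv q0 words hOK steps2 4000 931 1502 h2 chk2
  rw [len2] at h3
  have h4 := checkSteps_sound F 8 16777216 γ' hinv q0 words hOK steps3 6000 1502 2123 h3 chk3
  rw [len3] at h4
  have h5 := checkSteps_sound F 8 16777216 γ' hinv q0 words hOK steps4 8000 2123 2800 h4 chk4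
  rw [len4] at h5
  have h6 := checkSteps_sound F 8 16777216 γ' hinv q0 words hOK steps5 10000 2800 3454 h5 chk5
  rw [len5] at h6
  have h7 := checkSteps_sound F 8 16777216 γ' hinv q0 words hOK steps6 12000 3454 4147 h6 chk6
  rw [len6] at h7
  have h8 := checkSteps_sound F 8 16777216 γ' hinv q0 words hOK steps7 14000 4147 4890 h7 chk7
  rw [len7] at h8
  have h9 := checkSteps_sound F 8 16777216 γ' hinv q0 words hOK steps8 16000 4890 5675 h8 chk8
  rw [len8] at h9
  have h10 := checkSteps_sound F 8 16777216 γ' hinv q0 words hOK steps9 18000 5675 6472 h9 chk9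
  rw [len9] at h10
  have h11 := checkSteps_sound F 8 16777216 γ' hinv q0 words hOK steps10 20000 6472 7271 h10 chk10
  rw [len10] at h11
  have h12 := checkSteps_sound F 8 16777216 γ' hinv q0 words hOK steps11 22000 7271 7493 h11 chk11
  rw [len11] at h12
  have h13 := checkSteps_sound F 8 16777216 γ' hinv q0 words hOK steps12 24000 7493 7493 h12 chk12
  rw [len12] at h13
  have h14 := checkSteps_sound F 8 16777216 γ' hinv q0 words hOK steps13 26000 7493 7528 h13 chk13
  rw [len13] at h14
  have h15 := checkSteps_sound F 8 16777216 γ' hinv q0 words hOK steps14 28000 7528 7528 h14 chk14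
  rw [len14] at h15
  have := card_le F 8 16777216 γ' hinv q0 28043 7528 h15 rows mask mask_ok mask_zero rows_ok hgen
  rw [rows_length] at this
  exact this

/-- the relative index of the subgroup on the first 7 letters in that on the first 8 -/
theorem level : (K γo 7).relIndex (K γo 8) ≠ 0 ∧ (K γo 7).relIndex (K γo 8) ≤ 3159 := by
  apply SubChain.level γo γo_mul_self words 8 7 3159 bound
  intro v hv
  obtain ⟨h1, h2, h3⟩ := words_spec v hv
  refine ⟨h1, fun hr => rel_trivial v.1 (h2 hr), fun hr => ?_⟩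
  obtain ⟨x, hx, hvx⟩ := h3 hr
  rw [hvx]
  simpa using mem_K γo hx

end Cfsg.Agent.Lib.H17.Fi23Ord.Lv8
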