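import Cfsg.Agent.Lib.H17.Fi23Ord.Lv9StepsA
import Cfsg.Agent.Lib.H17.Fi23Ord.Lv9StepsB
import Cfsg.Agent.Lib.H17.Fi23Ord.Lv9StepsC
import Cfsg.Agent.Lib.H17.Fi23Ord.Lv9StepsD
import Cfsg.Agent.Lib.H17.Fi23Ord.Lv9Rows

set_option autoImplicit false
set_option maxRecDepth 100000

/-! # Bound for the relative index, Fi23Ord Lv9 (generated) -/

namespace Cfsg.Agent.Lib.H17.Fi23Ord.Lv9

open Cfsg.Spor Cfsg.Agent.Lib.H17.CosetCert Cfsg.Agent.Lib.H17.CoxGlue Cfsg.Agent.Lib.H17.Fi23Glue Cfsg.Agent.Lib.H17.SubChain Cfsg.Agent.Lib.H17.Fi23Ord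

theorem bound : Bound words 9 14080 := by
  intro G' _ Q' _ _ γ' hinv q0 hOK hgen
  have h0 := inv_zero F 9 γ' q0
  have h1 := checkSteps_sound F 9 16777216 γ' hinv q0 words hOK steps0 0 1 368 h0 chk0
  rw [len0] at h1
  have h2 := checkSteps_sound F 9 16777216 γ' hinv q0 words hOK steps1 2000 368 802 h1 chk1
  rw [len1] at h2
  have h3 := checkSteps_sound F 9 16777216 γ' hinv q0 words hOK steps2 4000 802 1242 h2 chk2
  rw [len2] at h3
  have h4 := checkSteps_sound F 9 16777216 γ' hinv q0 words hOK steps3 6000 1242 1735 h3 chk3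
  rw [len3] at h4
  have h5 := checkSteps_sound F 9 16777216 γ' hinv q0 words hOK steps4 8000 1735 2253 h4 chk4
  rw [len4] at h5
  have h6 := checkSteps_sound F 9 16777216 γ' hinv q0 words hOK steps5 10000 2253 2765 h5 chk5
  rw [len5] at h6
  have h7 := checkSteps_sound F 9 16777216 γ' hinv q0 words hOK steps6 12000 2765 3316 h6 chk6
  rw [len6] at h7
  have h8 := checkSteps_sound F 9 16777216 γ' hinv q0 words hOK steps7 14000 3316 3831 h7 chk7
  rw [len7] at h8
  have h9 := checkSteps_sound F 9 16777216 γ' hinv q0 words hOK steps8 16000 3831 4383 h8 chk8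
  rw [len8] at h9
  have h10 := checkSteps_sound F 9 16777216 γ' hinv q0 words hOK steps9 18000 4383 4891 h9 chk9
  rw [len9] at h10
  have h11 := checkSteps_sound F 9 16777216 γ' hinv q0 words hOK steps10 20000 4891 5435 h10 chk10
  rw [len10] at h11
  have h12 := checkSteps_sound F 9 16777216 γ' hinv q0 words hOK steps11 22000 5435 5628 h11 chk11
  rw [len11] at h12
  have h13 := checkSteps_sound F 9 16777216 γ' hinv q0 words hOK steps12 24000 5628 6086 h12 chk12
  rw [len12] at h13
  have h14 := checkSteps_sound F 9 16777216 γ' hinv q0 words hOK steps13 26000 6086 6564 h13 chk13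
  rw [len13] at h14
  have h15 := checkSteps_sound F 9 16777216 γ' hinv q0 words hOK steps14 28000 6564 6870 h14 chk14
  rw [len14] at h15
  have h16 := checkSteps_sound F 9 16777216 γ' hinv q0 words hOK steps15 30000 6870 7294 h15 chk15
  rw [len15] at h16
  have h17 := checkSteps_sound F 9 16777216 γ' hinv q0 words hOK steps16 32000 7294 7684 h16 chk16
  rw [len16] at h17
  have h18 := checkSteps_sound F 9 16777216 γ' hinv q0 words hOK steps17 34000 7684 8112 h17 chk17
  rw [len17] at h18
  have h19 := checkSteps_sound F 9 16777216 γ' hinv q0 words hOK steps18 36000 8112 8475 h18 chk18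
  rw [len18] at h19
  have h20 := checkSteps_sound F 9 16777216 γ' hinv q0 words hOK steps19 38000 8475 8883 h19 chk19
  rw [len19] at h20
  have h21 := checkSteps_sound F 9 16777216 γ' hinv q0 words hOK steps20 40000 8883 9287 h20 chk20
  rw [len20] at h21
  have h22 := checkSteps_sound F 9 16777216 γ' hinv q0 words hOK steps21 42000 9287 9671 h21 chk21
  rw [len21] at h22
  have h23 := checkSteps_sound F 9 16777216 γ' hinv q0 words hOK steps22 44000 9671 10096 h22 chk22
  rw [len22] at h23
  have h24 := checkSteps_sound F 9 16777216 γ' hinv q0 words hOK steps23 46000 10096 10471 h23 chk23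
  rw [len23] at h24
  have h25 := checkSteps_sound F 9 16777216 γ' hinv q0 words hOK steps24 48000 10471 10889 h24 chk24
  rw [len24] at h25
  have h26 := checkSteps_sound F 9 16777216 γ' hinv q0 words hOK steps25 50000 10889 11272 h25 chk25
  rw [len25] at h26
  have h27 := checkSteps_sound F 9 16777216 γ' hinv q0 words hOK steps26 52000 11272 11673 h26 chk26
  rw [len26] at h27
  have h28 := checkSteps_sound F 9 16777216 γ' hinv q0 words hOK steps27 54000 11673 12088 h27 chk27
  rw [len27] at h28
  have h29 := checkSteps_sound F 9 16777216 γ' hinv q0 words hOK steps28 56000 12088 12514 h28 chk28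
  rw [len28] at h29
  have h30 := checkSteps_sound F 9 16777216 γ' hinv q0 words hOK steps29 58000 12514 12948 h29 chk29
  rw [len29] at h30
  have h31 := checkSteps_sound F 9 16777216 γ' hinv q0 words hOK steps30 60000 12948 13412 h30 chk30
  rw [len30] at h31
  have h32 := checkSteps_sound F 9 16777216 γ' hinv q0 words hOK steps31 62000 13412 13829 h31 chk31
  rw [len31] at h32
  have h33 := checkSteps_sound F 9 16777216 γ' hinv q0 words hOK steps32 64000 13829 14245 h32 chk32
  rw [len32] at h33
  have h34 := checkSteps_sound F 9 16777216 γ' hinv q0 words hOK steps33 66000 14245 14633 h33 chk33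
  rw [len33] at h34
  have h35 := checkSteps_sound F 9 16777216 γ' hinv q0 words hOK steps34 68000 14633 15027 h34 chk34
  rw [len34] at h35
  have h36 := checkSteps_sound F 9 16777216 γ' hinv q0 words hOK steps35 70000 15027 15420 h35 chk35
  rw [len35] at h36
  have h37 := checkSteps_sound F 9 16777216 γ' hinv q0 words hOK steps36 72000 15420 15730 h36 chk36
  rw [len36] at h37
  have h38 := checkSteps_sound F 9 16777216 γ' hinv q0 words hOK steps37 74000 15730 15730 h37 chk37
  rw [len37] at h38
  have := card_le F 9 16777216 γ' hinv q0 75164 15730 h38 rows mask mask_ok mask_zero rows_ok hgen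
  rw [rows_length] at this
  exact this

/-- the relative index of the subgroup on the first 8 letters in that on the first 9 -/
theorem level : (K γo 8).relIndex (K γo 9) ≠ 0 ∧ (K γo 8).relIndex (K γo 9) ≤ 14080 := by
  apply SubChain.level γo γo_mul_self words 9 8 14080 bound
  intro v hv
  obtain ⟨h1, h2, h3⟩ := words_spec v hv
  refine ⟨h1, fun hr => rel_trivial v.1 (h2 hr), fun hr => ?_⟩
  obtain ⟨x, hx, hvx⟩ := h3 hr
  rw [hvx]
  simpa using mem_K γo hx

end Cfsg.Agent.Lib.H17.Fi23Ord.Lv9
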