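import Cfsg.Agent.Lib.H17.Fi23Ord.Order
import Cfsg.Agent.Lib.H17.Fi23Fi22.Orbits
import Cfsg.Agent.Lib.H17.Masks

set_option autoImplicit false
set_option maxRecDepth 100000

/-! # Simplicity of the presented group Fi23 (Iwasawa criterion on 31671 points; generated) -/

namespace Cfsg.Agent.Lib.H17.Fi23Simple

open Cfsg.Spor Cfsg.Agent.Lib.H17.CosetCert Cfsg.Agent.Lib.H17.CoxGlue
  Cfsg.Agent.Lib.H17.Fi23Glue Cfsg.Agent.Lib.H17.Iwa Cfsg.Agent.Lib.H17.Masks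
  Cfsg.Agent.Lib.H17.Fi23Fi22 MulAction

/-- the action on the points -/
noncomputable local instance actInst : MulAction G (Fin 31671) := MulAction.compHom (Fin 31671) φ

theorem smul_eq (g : G) (i : Fin 31671) : g • i = φ g i := rfl

instance pretrans : IsPretransitive G (Fin 31671) := (isPretransitive_iff_base z).mpr φ_trans

/-! ## Primitivity -/

theorem orb0 : {i : Fin 31671 | ∃ h ∈ Subgroup.closure S', φ h ⟨52, by decide⟩ = i} =
    {i : Fin 31671 | tb omask0 i = true} :=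
  orbit_eq_mask' 15 32768 31671 φ S' omask0 hr ⟨52, by decide⟩ sgT good_sgT S'_words words_S'
    obase0 oclosed0 oconn0

theorem orb1 : {i : Fin 31671 | ∃ h ∈ Subgroup.closure S', φ h ⟨1, by decide⟩ = i} =
    {i : Fin 31671 | tb omask1 i = true} :=
  orbit_eq_mask' 15 32768 31671 φ S' omask1 hr ⟨1, by decide⟩ sgT good_sgT S'_words words_S'
    obase1 oclosed1 oconn1

theorem trans_of_orb (mask : ℕ) (p : Fin 31671)
    (h : {i : Fin 31671 | ∃ h ∈ Subgroup.closure S', φ h p = i} = {i : Fin 31671 | tb mask i = true})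
    (x y : Fin 31671) (hx : tb mask x = true) (hy : tb mask y = true) :
    ∃ g : G, g • z = z ∧ g • x = y := by
  have hx' : x ∈ {i : Fin 31671 | ∃ h ∈ Subgroup.closure S', φ h p = i} := by rw [h]; exact hx
  have hy' : y ∈ {i : Fin 31671 | ∃ h ∈ Subgroup.closure S', φ h p = i} := by rw [h]; exact hy
  obtain ⟨h1, hh1, rfl⟩ := hx'
  obtain ⟨h2, hh2, rfl⟩ := hy'
  refine ⟨h2 * h1⁻¹, ?_, ?_⟩
  · have : h2 * h1⁻¹ ∈ H := by
      rw [H_eq]
      exact mul_mem hh2 (inv_mem hh1)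
    exact φ_H _ this
  · rw [smul_eq, map_mul, map_inv, Equiv.Perm.mul_apply]
    simp

/-- the orbit masks -/
def masks : Fin 2 → ℕ := ![omask0, omask1]

theorem cover_count : countBits (Nat.lor (Nat.lor (omask0) omask1) 1) 31671 0 = 31671 := by
  decide +kernel

theorem disj0_1 : Nat.land omask0 omask1 = 0 := by
  decide +kernel

theorem disj1_0 : Nat.land omask1 omask0 = 0 := by
  decide +kernel

theorem zbit0 : tb omask0 0 = false := by
  decide +kernel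

theorem zbit1 : tb omask1 0 = false := by
  decide +kernel

instance prim : IsPreprimitive G (Fin 31671) := by
  apply prim_of_masks z masks ![3510, 28160]
  · intro j
    fin_cases j
    · exact ocount0
    · exact ocount1
  · intro i hi
    have h := all_of_count _ _ cover_count i i.2
    rw [tb_lor, tb_lor, tb_one] at h
    have hi0 : (i : ℕ) ≠ 0 := fun h0 => hi (Fin.ext h0)
    simp only [hi0, decide_false, Bool.or_false, Bool.or_eq_true] at h
    rcases h with h | h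
    · exact ⟨0, h⟩
    · exact ⟨1, h⟩
  · intro i j hij
    fin_cases i <;> fin_cases j
    · exact absurd rfl hij
    · exact disj0_1
    · exact disj1_0
    · exact absurd rfl hij
  · intro j
    fin_cases j
    · exact zbit0
    · exact zbit1
  · intro j x y hx hy
    fin_cases j
    · exact trans_of_orb omask0 _ orb0 x y hx hy
    · exact trans_of_orb omask1 _ orb1 x y hx hy
  · decide

/-! ## The Iwasawa structure -/

/-- the word of the central involution of the point stabiliser -/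
def zW : List ℕ := [1, 2, 3, 4, 5, 6, 8, 1, 2, 3, 4, 5, 6, 8, 1, 2, 3, 4, 5, 6, 8, 1, 2, 3, 4, 5, 6, 8, 1, 2, 3, 4, 5, 6, 8, 1, 2, 3, 4, 5, 6, 8, 1, 2, 3, 4, 5, 6, 8, 1, 2, 3, 4, 5, 6, 8, 1, 2, 3, 4, 5, 6, 8]

/-- the central involution of the point stabiliser -/
noncomputable abbrev zel : G := Cfsg.Agent.Lib.H17.Fi23Ord.e zW

theorem comm0 : Cfsg.Agent.Lib.H17.Fi23Ord.e [0] * zel = zel * Cfsg.Agent.Lib.H17.Fi23Ord.e [0] := by
  rw [← Cfsg.Agent.Lib.H17.Fi23Ord.e_append, ← Cfsg.Agent.Lib.H17.Fi23Ord.e_append]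
  apply Cfsg.Agent.Lib.H17.Fi23Ord.e_eq_e
  decide +kernel

theorem comm1 : Cfsg.Agent.Lib.H17.Fi23Ord.e [1] * zel = zel * Cfsg.Agent.Lib.H17.Fi23Ord.e [1] := by
  rw [← Cfsg.Agent.Lib.H17.Fi23Ord.e_append, ← Cfsg.Agent.Lib.H17.Fi23Ord.e_append]
  apply Cfsg.Agent.Lib.H17.Fi23Ord.e_eq_e
  decide +kernel

theorem comm2 : Cfsg.Agent.Lib.H17.Fi23Ord.e [2] * zel = zel * Cfsg.Agent.Lib.H17.Fi23Ord.e [2] := by
  rw [← Cfsg.Agent.Lib.H17.Fi23Ord.e_append, ← Cfsg.Agent.Lib.H17.Fi23Ord.e_append]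
  apply Cfsg.Agent.Lib.H17.Fi23Ord.e_eq_e
  decide +kernel

theorem comm3 : Cfsg.Agent.Lib.H17.Fi23Ord.e [3] * zel = zel * Cfsg.Agent.Lib.H17.Fi23Ord.e [3] := by
  rw [← Cfsg.Agent.Lib.H17.Fi23Ord.e_append, ← Cfsg.Agent.Lib.H17.Fi23Ord.e_append]
  apply Cfsg.Agent.Lib.H17.Fi23Ord.e_eq_e
  decide +kernel

theorem comm4 : Cfsg.Agent.Lib.H17.Fi23Ord.e [4] * zel = zel * Cfsg.Agent.Lib.H17.Fi23Ord.e [4] := by
  rw [← Cfsg.Agent.Lib.H17.Fi23Ord.e_append, ← Cfsg.Agent.Lib.H17.Fi23Ord.e_append]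
  apply Cfsg.Agent.Lib.H17.Fi23Ord.e_eq_e
  decide +kernel

theorem comm5 : Cfsg.Agent.Lib.H17.Fi23Ord.e [5] * zel = zel * Cfsg.Agent.Lib.H17.Fi23Ord.e [5] := by
  rw [← Cfsg.Agent.Lib.H17.Fi23Ord.e_append, ← Cfsg.Agent.Lib.H17.Fi23Ord.e_append]
  apply Cfsg.Agent.Lib.H17.Fi23Ord.e_eq_e
  decide +kernel

theorem comm6 : Cfsg.Agent.Lib.H17.Fi23Ord.e [6] * zel = zel * Cfsg.Agent.Lib.H17.Fi23Ord.e [6] := by
  rw [← Cfsg.Agent.Lib.H17.Fi23Ord.e_append, ← Cfsg.Agent.Lib.H17.Fi23Ord.e_append]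
  apply Cfsg.Agent.Lib.H17.Fi23Ord.e_eq_e
  decide +kernel

theorem comm7 : Cfsg.Agent.Lib.H17.Fi23Ord.e [8] * zel = zel * Cfsg.Agent.Lib.H17.Fi23Ord.e [8] := by
  rw [← Cfsg.Agent.Lib.H17.Fi23Ord.e_append, ← Cfsg.Agent.Lib.H17.Fi23Ord.e_append]
  apply Cfsg.Agent.Lib.H17.Fi23Ord.e_eq_e
  decide +kernel

theorem comm8 : Cfsg.Agent.Lib.H17.Fi23Ord.e [9] * zel = zel * Cfsg.Agent.Lib.H17.Fi23Ord.e [9] := by
  rw [← Cfsg.Agent.Lib.H17.Fi23Ord.e_append, ← Cfsg.Agent.Lib.H17.Fi23Ord.e_append]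
  apply Cfsg.Agent.Lib.H17.Fi23Ord.e_eq_e
  decide +kernel

theorem comm_S' : ∀ s ∈ S', s * zel = zel * s := by
  rintro _ ⟨s, hs, rfl⟩
  simp only [S, Set.mem_insert_iff, Set.mem_singleton_iff] at hs
  rcases hs with rfl | rfl | rfl | rfl | rfl | rfl | rfl | rfl | rfl
  · have h := comm0
    have he : Cfsg.Agent.Lib.H17.Fi23Ord.e [0] = PresentedGroup.mk rels (FreeGroup.mk sgL0) := by
      rw [mk_mk]; rfl
    rw [he, ← sg0_eq] at h
    exact h
  · have h := comm1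
    have he : Cfsg.Agent.Lib.H17.Fi23Ord.e [1] = PresentedGroup.mk rels (FreeGroup.mk sgL1) := by
      rw [mk_mk]; rfl
    rw [he, ← sg1_eq] at h
    exact h
  · have h := comm2
    have he : Cfsg.Agent.Lib.H17.Fi23Ord.e [2] = PresentedGroup.mk rels (FreeGroup.mk sgL2) := by
      rw [mk_mk]; rfl
    rw [he, ← sg2_eq] at h
    exact h
  · have h := comm3
    have he : Cfsg.Agent.Lib.H17.Fi23Ord.e [3] = PresentedGroup.mk rels (FreeGroup.mk sgL3) := by
      rw [mk_mk]; rfl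
    rw [he, ← sg3_eq] at h
    exact h
  · have h := comm4
    have he : Cfsg.Agent.Lib.H17.Fi23Ord.e [4] = PresentedGroup.mk rels (FreeGroup.mk sgL4) := by
      rw [mk_mk]; rfl
    rw [he, ← sg4_eq] at h
    exact h
  · have h := comm5
    have he : Cfsg.Agent.Lib.H17.Fi23Ord.e [5] = PresentedGroup.mk rels (FreeGroup.mk sgL5) := by
      rw [mk_mk]; rfl
    rw [he, ← sg5_eq] at h
    exact h
  · have h := comm6
    have he : Cfsg.Agent.Lib.H17.Fi23Ord.e [6] = PresentedGroup.mk rels (FreeGroup.mk sgL6) := by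
      rw [mk_mk]; rfl
    rw [he, ← sg6_eq] at h
    exact h
  · have h := comm7
    have he : Cfsg.Agent.Lib.H17.Fi23Ord.e [8] = PresentedGroup.mk rels (FreeGroup.mk sgL7) := by
      rw [mk_mk]; rfl
    rw [he, ← sg7_eq] at h
    exact h
  · have h := comm8
    have he : Cfsg.Agent.Lib.H17.Fi23Ord.e [9] = PresentedGroup.mk rels (FreeGroup.mk sgL8) := by
      rw [mk_mk]; rfl
    rw [he, ← sg8_eq] at h
    exact h

theorem zel_fix : φ zel z = z := by
  rw [Cfsg.Agent.Lib.H17.Fi23Ord.φ_e]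
  exact Cfsg.Agent.Lib.H17.Sgs.prod_fix_of_apply 15 32768 _ (fun t ht => good_tabs t (Cfsg.Agent.Lib.H17.Fi23Ord.tw_mem _ t ht)) 0
    (by decide) (by decide +kernel)

theorem zel_mem_T : zel ∈ T (X := Fin 31671) z := by
  refine ⟨zel_fix, fun q hq => ?_⟩
  have hqH : q ∈ H := index_and_stab.2 q hq
  rw [H_eq] at hqH
  have hle : Subgroup.closure S' ≤ Subgroup.centralizer {zel} := by
    rw [Subgroup.closure_le]
    intro s hs
    rw [SetLike.mem_coe, Subgroup.mem_centralizer_iff]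
    intro h hh
    rw [Set.mem_singleton_iff] at hh
    subst hh
    exact (comm_S' s hs).symm
  have := hle hqH
  rw [Subgroup.mem_centralizer_iff] at this
  exact this zel rfl

/-! ## The generators are conjugate -/

theorem pow3_of_word {x y : G} (h : x * (y * (x * (y * (x * (y * 1))))) = 1) : (x * y) ^ 3 = 1 := by
  rw [← h, pow_succ, pow_succ, pow_one]
  simp only [mul_assoc, mul_one]

theorem braid (x y : ℕ) (hw : [x, y, x, y, x, y] ∈ relW) :
    ∃ g : G, g * PresentedGroup.of (gen x) * g⁻¹ = PresentedGroup.of (gen y) :=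
  isConj_of_braid (of_mul_self _) (of_mul_self _) (pow3_of_word (relW_trivial _ hw))

theorem conj_trans {a b c : G} (h1 : ∃ g : G, g * a * g⁻¹ = b) (h2 : ∃ g : G, g * b * g⁻¹ = c) :
    ∃ g : G, g * a * g⁻¹ = c := by
  obtain ⟨g, rfl⟩ := h1
  obtain ⟨h, rfl⟩ := h2
  exact ⟨h * g, by group⟩

/-- the word conjugating the central involution to a generator -/
def conjU : List ℕ := [7, 6, 5, 4, 3, 2, 1, 0, 8, 3, 2, 4, 3, 5, 4, 6, 5, 7, 6, 8, 3, 2, 4, 3, 5, 4, 8, 3, 2, 1]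

theorem conj0 : ∃ g : G, g * zel * g⁻¹ = PresentedGroup.of (gen 0) := by
  refine ⟨Cfsg.Agent.Lib.H17.Fi23Ord.e conjU.reverse, ?_⟩
  rw [Cfsg.Agent.Lib.H17.Fi23Ord.e_reverse, inv_inv, ← Cfsg.Agent.Lib.H17.Fi23Ord.e_reverse, ← Cfsg.Agent.Lib.H17.Fi23Ord.e_append, ← Cfsg.Agent.Lib.H17.Fi23Ord.e_append, ← Cfsg.Agent.Lib.H17.Fi23Ord.e_singleton]
  apply Cfsg.Agent.Lib.H17.Fi23Ord.e_eq_e
  decide +kernel

theorem cj1 : ∃ g : G, g * zel * g⁻¹ = PresentedGroup.of (gen 1) :=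
  conj_trans conj0 (braid 0 1 (by decide))

theorem cj2 : ∃ g : G, g * zel * g⁻¹ = PresentedGroup.of (gen 2) :=
  conj_trans cj1 (braid 1 2 (by decide))

theorem cj3 : ∃ g : G, g * zel * g⁻¹ = PresentedGroup.of (gen 3) :=
  conj_trans cj2 (braid 2 3 (by decide))

theorem cj4 : ∃ g : G, g * zel * g⁻¹ = PresentedGroup.of (gen 4) :=
  conj_trans cj3 (braid 3 4 (by decide))

theorem cj5 : ∃ g : G, g * zel * g⁻¹ = PresentedGroup.of (gen 5) :=
  conj_trans cj4 (braid 4 5 (by decide))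

theorem cj6 : ∃ g : G, g * zel * g⁻¹ = PresentedGroup.of (gen 6) :=
  conj_trans cj5 (braid 5 6 (by decide))

theorem cj7 : ∃ g : G, g * zel * g⁻¹ = PresentedGroup.of (gen 7) :=
  conj_trans cj6 (braid 6 7 (by decide))

theorem cj8 : ∃ g : G, g * zel * g⁻¹ = PresentedGroup.of (gen 8) :=
  conj_trans cj3 (braid 3 8 (by decide))

theorem cj9 : ∃ g : G, g * zel * g⁻¹ = PresentedGroup.of (gen 9) :=
  conj_trans cj8 (braid 8 9 (by decide))

theorem conj_all : ∀ s ∈ {g : G | ∃ x < 10, g = PresentedGroup.of (gen x)},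
    ∃ g : G, g * zel * g⁻¹ = s := by
  rintro _ ⟨x, hx, rfl⟩
  interval_cases x
  · exact conj0
  · exact cj1
  · exact cj2
  · exact cj3
  · exact cj4
  · exact cj5
  · exact cj6
  · exact cj7
  · exact cj8
  · exact cj9

/-! ## Perfectness and simplicity -/

theorem zel_sq : zel * zel = 1 := by
  rw [← Cfsg.Agent.Lib.H17.Fi23Ord.e_append, ← Cfsg.Agent.Lib.H17.Fi23Ord.e_nil]
  apply Cfsg.Agent.Lib.H17.Fi23Ord.e_eq_e
  decide +kernel

/-- a relator of odd length -/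
def oddW : List ℕ := [0, 1, 2, 3, 4, 5, 8, 0, 1, 2, 3, 4, 5, 8, 0, 1, 2, 3, 4, 5, 8, 0, 1, 2, 3, 4, 5, 8, 0, 1, 2, 3, 4, 5, 8, 0, 1, 2, 3, 4, 5, 8, 0, 1, 2, 3, 4, 5, 8, 0, 1, 2, 3, 4, 5, 8, 0, 1, 2, 3, 4, 5, 8]

theorem oddW_mem : oddW ∈ relW := by
  decide

theorem perfect : commutator G = ⊤ := by
  apply commutator_eq_top_of_odd_relation _ closure_gens zel conj_all zel_sq
    (oddW.map fun x => PresentedGroup.of (gen x))
  · intro s hs
    obtain ⟨x, hx, rfl⟩ := List.mem_map.mp hs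
    have hall : ∀ x ∈ oddW, x < 10 := by decide
    exact ⟨x, hall x hx, rfl⟩
  · rw [List.length_map]
    decide
  · have := relW_trivial _ oddW_mem
    rw [List.map_map] at this
    exact this

theorem simple : IsSimpleGroup G := by
  have := Cfsg.Agent.Lib.H17.Fi23Ord.finite_G
  have : Nontrivial G := by
    rw [← Finite.one_lt_card_iff_nontrivial, Cfsg.Agent.Lib.H17.Fi23Ord.card_eq]
    norm_num
  have hgen := iSup_T_eq_top (X := Fin 31671) _ closure_gens z zel zel_mem_T conj_all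
  exact IwasawaStructure.isSimpleGroup perfect (iwasawa hgen)
    ⟨fun {g h} heq => Cfsg.Agent.Lib.H17.Fi23Ord.φ_injective (Equiv.ext heq)⟩

end Cfsg.Agent.Lib.H17.Fi23Simple
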