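import Cfsg.Agent.Lib.H17.Fi23Ord.Lv1Cert
import Cfsg.Agent.Lib.H17.Fi23Ord.Lv2Cert
import Cfsg.Agent.Lib.H17.Fi23Ord.Lv3Cert
import Cfsg.Agent.Lib.H17.Fi23Ord.Lv4Cert
import Cfsg.Agent.Lib.H17.Fi23Ord.Lv5Cert
import Cfsg.Agent.Lib.H17.Fi23Ord.Lv6Cert
import Cfsg.Agent.Lib.H17.Fi23Ord.Lv7Cert
import Cfsg.Agent.Lib.H17.Fi23Ord.Lv8Cert
import Cfsg.Agent.Lib.H17.Fi23Ord.Lv9Cert
import Cfsg.Agent.Lib.H17.Fi23Fi22.Lower

set_option autoImplicit false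
set_option maxRecDepth 100000

/-! # Upper bound for the order of Fi23 (generated) -/

namespace Cfsg.Agent.Lib.H17.Fi23Ord

open Cfsg.Spor Cfsg.Agent.Lib.H17.CosetCert Cfsg.Agent.Lib.H17.CoxGlue Cfsg.Agent.Lib.H17.Fi23Glue Cfsg.Agent.Lib.H17.SubChain

theorem Ktop_eq : K γo 9 = Cfsg.Agent.Lib.H17.Fi23Fi22.H := by
  unfold K
  rw [show Cfsg.Agent.Lib.H17.Fi23Fi22.H = Subgroup.closure (PresentedGroup.mk rels '' Cfsg.Agent.Lib.H17.Fi23Fi22.S) from MonoidHom.map_closure _ _]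
  congr 1
  ext g
  simp only [Set.mem_setOf_eq, Set.mem_image, Cfsg.Agent.Lib.H17.Fi23Fi22.S, Set.mem_insert_iff, Set.mem_singleton_iff]
  constructor
  · rintro ⟨x, hx, rfl⟩
    interval_cases x
    · exact ⟨Cfsg.Spor.Fi23.b, by simp, rfl⟩
    · exact ⟨Cfsg.Spor.Fi23.c, by simp, rfl⟩
    · exact ⟨Cfsg.Spor.Fi23.d, by simp, rfl⟩
    · exact ⟨Cfsg.Spor.Fi23.e, by simp, rfl⟩
    · exact ⟨Cfsg.Spor.Fi23.f, by simp, rfl⟩
    · exact ⟨Cfsg.Spor.Fi23.g, by simp, rfl⟩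
    · exact ⟨Cfsg.Spor.Fi23.h, by simp, rfl⟩
    · exact ⟨Cfsg.Spor.Fi23.i, by simp, rfl⟩
    · exact ⟨Cfsg.Spor.Fi23.a, by simp, rfl⟩
  · rintro ⟨s, hs, rfl⟩
    rcases hs with rfl | rfl | rfl | rfl | rfl | rfl | rfl | rfl | rfl
    · exact ⟨8, by norm_num, rfl⟩
    · exact ⟨0, by norm_num, rfl⟩
    · exact ⟨1, by norm_num, rfl⟩
    · exact ⟨2, by norm_num, rfl⟩
    · exact ⟨3, by norm_num, rfl⟩
    · exact ⟨4, by norm_num, rfl⟩
    · exact ⟨5, by norm_num, rfl⟩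
    · exact ⟨6, by norm_num, rfl⟩
    · exact ⟨7, by norm_num, rfl⟩

/-- the upper bound for the order -/
theorem card_le : 0 < Nat.card G ∧ Nat.card G ≤ 4089470473293004800 := by
  have c0 := card_zero γo
  have c1 := card_step γo (by norm_num : 0 ≤ 1) c0 Lv1.level
  have c2 := card_step γo (by norm_num : 1 ≤ 2) c1 Lv2.level
  have c3 := card_step γo (by norm_num : 2 ≤ 3) c2 Lv3.level
  have c4 := card_step γo (by norm_num : 3 ≤ 4) c3 Lv4.level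
  have c5 := card_step γo (by norm_num : 4 ≤ 5) c4 Lv5.level
  have c6 := card_step γo (by norm_num : 5 ≤ 6) c5 Lv6.level
  have c7 := card_step γo (by norm_num : 6 ≤ 7) c6 Lv7.level
  have c8 := card_step γo (by norm_num : 7 ≤ 8) c7 Lv8.level
  have c9 := card_step γo (by norm_num : 8 ≤ 9) c8 Lv9.level
  have htop : (K γo 9).relIndex (K γo 10) = 31671 := by
    rw [K_top, Subgroup.relIndex_top_right, Ktop_eq]
    exact Cfsg.Agent.Lib.H17.Fi23Fi22.index_eq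
  have c10 := card_step_eq γo (by norm_num : 9 ≤ 10) c9 htop (by norm_num)
  rw [K_top, Subgroup.card_top] at c10
  refine ⟨c10.1, le_trans c10.2 (by norm_num)⟩

end Cfsg.Agent.Lib.H17.Fi23Ord
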